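import Groth.Agent.H27Quot.Basic
import Mathlib

/-! Field-valued points of quotients by finite groups. -/

set_option autoImplicit false
set_option linter.style.haveILetI false
universe u

open CategoryTheory AlgebraicGeometry

namespace Groth.Agent.H27Quot

theorem exists_ringHom_lift {A B K : Type u} [CommRing A] [CommRing B] [Field K] [IsAlgClosed K]
    (f : A →+* B) (hf : f.IsIntegral) (hinj : Function.Injective f) (φ : A →+* K) :
    ∃ ψ : B →+* K, ψ.comp f = φ := by
  obtain ⟨q, hq⟩ := hf.comap_surjective hinj ⟨RingHom.ker φ, RingHom.ker_isPrime φ⟩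
  have hq' : q.asIdeal.comap f = RingHom.ker φ := congrArg PrimeSpectrum.asIdeal hq
  letI : Algebra A B := f.toAlgebra
  haveI : Algebra.IsIntegral A B := ⟨hf⟩
  let P := q.asIdeal.comap f
  letI : Algebra (A ⧸ P) K := (Ideal.Quotient.lift P φ (fun a ha => by
    have : a ∈ RingHom.ker φ := hq' ▸ ha
    exact this)).toAlgebra
  haveI : q.asIdeal.LiesOver P := ⟨rfl⟩
  haveI : Algebra.IsIntegral (A ⧸ P) (B ⧸ q.asIdeal) :=
    Algebra.IsIntegral.tower_top (R := A) (S := A ⧸ P) (T := B ⧸ q.asIdeal)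
  haveI : Algebra.IsAlgebraic (A ⧸ P) (B ⧸ q.asIdeal) := Algebra.IsIntegral.isAlgebraic
  haveI : Module.IsTorsionFree (A ⧸ P) (B ⧸ q.asIdeal) :=
    Module.isTorsionFree_iff_algebraMap_injective.mpr Ideal.algebraMap_quotient_injective
  haveI : Module.IsTorsionFree (A ⧸ P) K := Module.isTorsionFree_iff_algebraMap_injective.mpr (by
    exact RingHom.lift_injective_of_ker_le_ideal _ _ hq'.ge)
  let L : (B ⧸ q.asIdeal) →ₐ[A ⧸ P] K := IsAlgClosed.lift
  refine ⟨L.toRingHom.comp (Ideal.Quotient.mk _), RingHom.ext fun a => ?_⟩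
  show L (algebraMap (A ⧸ P) (B ⧸ q.asIdeal) (Ideal.Quotient.mk P a)) = φ a
  rw [L.commutes]
  rfl

theorem exists_act_eq {A B K : Type u} [CommRing A] [CommRing B] [Field K] {G : Type u} [Group G] [Finite G]
    (f : A →+* B) (act : G → B →+* B) (h1 : ∀ s, act 1 s = s)
    (hmul : ∀ g h s, act (g * h) s = act h (act g s))
    (hinv : ∀ s, (∀ g, act g s = s) → s ∈ Set.range f)
    (ψ₁ ψ₂ : B →+* K) (he : ψ₁.comp f = ψ₂.comp f) : ∃ g, ∀ b, ψ₂ b = ψ₁ (act g b) := by
  classical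
  haveI := Fintype.ofFinite G
  by_contra hne
  push Not at hne
  choose b hb using hne
  -- a generic linear combination of the witnesses
  let T : MvPolynomial G B := ∑ g, MvPolynomial.C (b g) * MvPolynomial.X g
  let Q : Polynomial (MvPolynomial G B) :=
    ∏ g : G, (Polynomial.X - Polynomial.C (MvPolynomial.map (act g) T))
  have hQfix : ∀ h, Q.map (MvPolynomial.map (act h)) = Q := by
    intro h
    simp only [Q, Polynomial.map_prod, Polynomial.map_sub, Polynomial.map_X, Polynomial.map_C]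
    refine Fintype.prod_equiv (Equiv.mulRight h) _ _ fun g => ?_
    rw [Equiv.coe_mulRight, MvPolynomial.map_map,
      show act (g * h) = (act h).comp (act g) from RingHom.ext (hmul g h)]
  have hQr : Q.map (MvPolynomial.map ψ₁) = Q.map (MvPolynomial.map ψ₂) := by
    refine Polynomial.ext fun n => MvPolynomial.ext _ _ fun d => ?_
    simp only [Polynomial.coeff_map, MvPolynomial.coeff_map]
    obtain ⟨a, ha⟩ := hinv (MvPolynomial.coeff d (Q.coeff n)) fun h => by
      conv_rhs => rw [← hQfix h, Polynomial.coeff_map, MvPolynomial.coeff_map]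
    rw [← ha]
    exact congr($he a)
  have hroot : (Q.map (MvPolynomial.map ψ₂)).eval (MvPolynomial.map ψ₂ T) = 0 := by
    simp only [Q, Polynomial.map_prod, Polynomial.map_sub, Polynomial.map_X, Polynomial.map_C,
      Polynomial.eval_prod, Polynomial.eval_sub, Polynomial.eval_X, Polynomial.eval_C]
    refine Finset.prod_eq_zero (Finset.mem_univ 1) ?_
    rw [sub_eq_zero, show act 1 = RingHom.id B from RingHom.ext h1, MvPolynomial.map_id]
  rw [← hQr] at hroot
  simp only [Q, Polynomial.map_prod, Polynomial.map_sub, Polynomial.map_X, Polynomial.map_C,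
    Polynomial.eval_prod, Polynomial.eval_sub, Polynomial.eval_X, Polynomial.eval_C] at hroot
  obtain ⟨g, -, hg⟩ := Finset.prod_eq_zero_iff.mp hroot
  rw [sub_eq_zero] at hg
  apply hb g
  have hc := congrArg (MvPolynomial.coeff (Finsupp.single g 1)) hg
  simpa [T, MvPolynomial.coeff_sum, MvPolynomial.coeff_map, MvPolynomial.coeff_C_mul,
    MvPolynomial.coeff_X', Finsupp.single_left_inj, apply_ite] using hc

variable {X Y : Scheme.{u}} {G : Type u} [Group G] {ρ : G →* Aut X} {p : X ⟶ Y}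

theorem exists_point_lift (hq : SGA1.IsQuot ρ p) [Finite G] {K : Type u} [Field K] [IsAlgClosed K]
    (y : Spec (CommRingCat.of K) ⟶ Y) : ∃ x : Spec (CommRingCat.of K) ⟶ X, x ≫ p = y := by
  obtain ⟨U, hU, hyU, -⟩ := exists_isAffineOpen_mem_and_subset (X := Y) (x := y (IsLocalRing.closedPoint K)) (U := ⊤) trivial
  haveI := hq.affine
  have hV := hU.preimage p
  have hr : Set.range y ⊆ Set.range hU.fromSpec := by
    rw [hU.range_fromSpec]
    rintro _ ⟨z, rfl⟩
    rw [Subsingleton.elim z (IsLocalRing.closedPoint K)]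
    exact hyU
  obtain ⟨φ, hφ⟩ := Spec.map_surjective (IsOpenImmersion.lift hU.fromSpec y hr)
  obtain ⟨ψ, hψ⟩ := exists_ringHom_lift (p.app U).hom (isIntegral_app hq U) (hq.injective U) φ.hom
  refine ⟨Spec.map (CommRingCat.ofHom ψ) ≫ hV.fromSpec, ?_⟩
  rw [Category.assoc, ← hU.SpecMap_appLE_fromSpec p hV le_rfl, ← Category.assoc, ← Spec.map_comp,
    Scheme.Hom.appLE_eq_app]
  rw [show p.app U ≫ CommRingCat.ofHom ψ = φ from CommRingCat.hom_ext hψ, hφ, IsOpenImmersion.lift_fac]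

theorem exists_eq_comp_of_point (hq : SGA1.IsQuot ρ p) [Finite G] {K : Type u} [Field K]
    (x₁ x₂ : Spec (CommRingCat.of K) ⟶ X) (he : x₁ ≫ p = x₂ ≫ p) : ∃ g, x₂ = x₁ ≫ (ρ g).hom := by
  obtain ⟨U, hU, hyU, -⟩ := exists_isAffineOpen_mem_and_subset (X := Y)
    (x := (x₁ ≫ p) (IsLocalRing.closedPoint K)) (U := ⊤) trivial
  haveI := hq.affine
  have hV := hU.preimage p
  have hr : ∀ x : Spec (CommRingCat.of K) ⟶ X, x ≫ p = x₁ ≫ p → ∃ ψ, x = Spec.map ψ ≫ hV.fromSpec := by
    intro x hx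
    have hsub : Set.range x ⊆ Set.range hV.fromSpec := by
      rw [hV.range_fromSpec]
      rintro _ ⟨z, rfl⟩
      rw [Subsingleton.elim z (IsLocalRing.closedPoint K)]
      show p (x _) ∈ U
      rw [← Scheme.Hom.comp_apply, hx]
      exact hyU
    obtain ⟨ψ, hψ⟩ := Spec.map_surjective (IsOpenImmersion.lift hV.fromSpec x hsub)
    exact ⟨ψ, by rw [hψ, IsOpenImmersion.lift_fac]⟩
  obtain ⟨ψ₁, rfl⟩ := hr x₁ rfl
  obtain ⟨ψ₂, rfl⟩ := hr x₂ he.symm
  rw [Category.assoc, Category.assoc, ← hU.SpecMap_appLE_fromSpec p hV le_rfl, ← Category.assoc,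
    ← Category.assoc, cancel_mono, ← Spec.map_comp, ← Spec.map_comp, Scheme.Hom.appLE_eq_app] at he
  obtain ⟨g, hg⟩ := exists_act_eq (p.app U).hom (act hq U) (act_one hq U) (act_mul hq U)
    (fun s hs => (hq.range_iff U s).mpr hs) ψ₁.hom ψ₂.hom (congrArg CommRingCat.Hom.hom (Spec.map_injective he))
  refine ⟨g, ?_⟩
  rw [Category.assoc, ← hV.SpecMap_appLE_fromSpec (ρ g).hom hV (SGA1.preimage_le_of_inv ρ p hq.inv g U),
    ← Category.assoc, ← Spec.map_comp]
  congr 2
  exact CommRingCat.hom_ext (RingHom.ext hg)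

theorem universallyInjective_of_quotient {W WG : Scheme.{u}} {ρW : G →* Aut W} {pW : W ⟶ WG} [Finite G]
    (hPW : SGA1.IsQuot ρW pW) (hP : SGA1.IsQuot ρ p) (j : W ⟶ X) [Mono j]
    (hρW : ∀ g, (ρW g).hom ≫ j = j ≫ (ρ g).hom) (φ : WG ⟶ Y) (hφ : pW ≫ φ = j ≫ p) :
    UniversallyInjective φ := by
  refine ((tfae_universallyInjective φ).out 0 1).mpr ?_
  intro K _ y₁ y₂ he
  let L := AlgebraicClosure K
  let e : Spec (CommRingCat.of L) ⟶ Spec (CommRingCat.of K) := Spec.map (CommRingCat.ofHom (algebraMap K L))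
  haveI : Epi e := by
    haveI : Flat e := by
      rw [HasRingHomProperty.Spec_iff (P := @Flat)]
      exact RingHom.flat_algebraMap_iff.mpr inferInstance
    haveI : Surjective e := ⟨fun z => ⟨IsLocalRing.closedPoint L, Subsingleton.elim (α := PrimeSpectrum K) _ _⟩⟩
    exact Flat.epi_of_flat_of_surjective e
  rw [← cancel_epi e]
  obtain ⟨w₁, hw₁⟩ := exists_point_lift hPW (e ≫ y₁)
  obtain ⟨w₂, hw₂⟩ := exists_point_lift hPW (e ≫ y₂)
  obtain ⟨g, hg⟩ := exists_eq_comp_of_point hP (w₁ ≫ j) (w₂ ≫ j) (by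
    rw [Category.assoc, Category.assoc, ← hφ, ← Category.assoc, ← Category.assoc, hw₁, hw₂,
      Category.assoc, Category.assoc]
    exact congrArg (e ≫ ·) he)
  rw [Category.assoc, ← hρW, ← Category.assoc, cancel_mono] at hg
  rw [← hw₁, ← hw₂, hg, Category.assoc, hPW.inv]

theorem range_of_quotient {W WG : Scheme.{u}} {ρW : G →* Aut W} {pW : W ⟶ WG} [Finite G]
    (hPW : SGA1.IsQuot ρW pW) (j : W ⟶ X) (φ : WG ⟶ Y) (hφ : pW ≫ φ = j ≫ p) :
    Set.range φ.base = p.base '' Set.range j.base := by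
  ext y
  constructor
  · rintro ⟨z, rfl⟩
    obtain ⟨w, rfl⟩ := surjective hPW z
    exact ⟨j w, ⟨w, rfl⟩, (congr(($hφ) w)).symm⟩
  · rintro ⟨_, ⟨w, rfl⟩, rfl⟩
    exact ⟨pW w, congr(($hφ) w)⟩

end Groth.Agent.H27Quot
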