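import Groth.Prelude.Def_SGA1
import Mathlib

/-! Quotients of schemes by finite groups (`SGA1.IsQuot`): integrality, surjectivity, affine descent. -/

set_option linter.style.haveILetI false

universe u

open CategoryTheory AlgebraicGeometry TopologicalSpace

namespace Groth.Agent.H27Quot

variable {X Y : Scheme.{u}} {G : Type u} [Group G] {ρ : G →* Aut X} {p : X ⟶ Y}

/-- The action on sections over the preimage of an open of the quotient. -/
noncomputable def act (hq : SGA1.IsQuot ρ p) (U : Y.Opens) (g : G) : Γ(X, p ⁻¹ᵁ U) →+* Γ(X, p ⁻¹ᵁ U) :=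
  ((ρ g).hom.appLE (p ⁻¹ᵁ U) (p ⁻¹ᵁ U) (SGA1.preimage_le_of_inv ρ p hq.inv g U)).hom

theorem act_one (hq : SGA1.IsQuot ρ p) (U : Y.Opens) (s : Γ(X, p ⁻¹ᵁ U)) : act hq U 1 s = s := by
  have h : (ρ 1).hom = 𝟙 X := by rw [map_one]; rfl
  simp only [act, h]
  simp [Scheme.Hom.appLE]
  erw [Subsingleton.elim (homOfLE _).op (𝟙 _), X.presheaf.map_id]
  rfl

theorem act_mul (hq : SGA1.IsQuot ρ p) (U : Y.Opens) (g h : G) (s : Γ(X, p ⁻¹ᵁ U)) :
    act hq U (g * h) s = act hq U h (act hq U g s) := by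
  have e : (ρ (g * h)).hom = (ρ h).hom ≫ (ρ g).hom := by rw [map_mul]; rfl
  simp only [act, e]
  rw [← Scheme.Hom.appLE_comp_appLE (ρ h).hom (ρ g).hom (p ⁻¹ᵁ U) (p ⁻¹ᵁ U) (p ⁻¹ᵁ U)
    (SGA1.preimage_le_of_inv ρ p hq.inv g U) (SGA1.preimage_le_of_inv ρ p hq.inv h U)]
  rfl

theorem exists_monic (hq : SGA1.IsQuot ρ p) [Finite G] (U : Y.Opens) (a : Γ(X, p ⁻¹ᵁ U)) :
    ∃ P : Polynomial Γ(X, p ⁻¹ᵁ U), P.Monic ∧ P.eval a = 0 ∧
      (∀ n, P.coeff n ∈ Set.range (p.app U).hom) ∧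
      ∀ n, n < P.natDegree → P.coeff n ∈ Ideal.span (Set.range fun g => act hq U g a) := by
  classical
  haveI := Fintype.ofFinite G
  let P : Polynomial Γ(X, p ⁻¹ᵁ U) := ∏ g : G, (Polynomial.X - Polynomial.C (act hq U g a))
  have hmonic : P.Monic := Polynomial.monic_prod_of_monic _ _ fun g _ => Polynomial.monic_X_sub_C _
  refine ⟨P, hmonic, ?_, fun n => (hq.range_iff U _).mpr fun h => ?_, fun n hn => ?_⟩
  · rw [Polynomial.eval_prod]
    exact Finset.prod_eq_zero (Finset.mem_univ 1) (by simp [act_one])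
  · have hP : P.map (act hq U h) = P := by
      simp only [P, Polynomial.map_prod, Polynomial.map_sub, Polynomial.map_X, Polynomial.map_C]
      exact Fintype.prod_equiv (Equiv.mulRight h) _ _ fun g => by
        rw [Equiv.coe_mulRight, act_mul]
    calc act hq U h (P.coeff n) = (P.map (act hq U h)).coeff n := (Polynomial.coeff_map _ _).symm
      _ = _ := by rw [hP]
  · let J := Ideal.span (Set.range fun g => act hq U g a)
    rcases subsingleton_or_nontrivial (Γ(X, p ⁻¹ᵁ U) ⧸ J) with hs | hs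
    · exact Ideal.Quotient.eq_zero_iff_mem.mp (Subsingleton.elim _ _)
    have hmap : P.map (Ideal.Quotient.mk J) = Polynomial.X ^ Fintype.card G := by
      have h0 : ∀ g, Ideal.Quotient.mk J (act hq U g a) = 0 := fun g =>
        Ideal.Quotient.eq_zero_iff_mem.mpr (Ideal.subset_span ⟨g, rfl⟩)
      simp [P, Polynomial.map_prod, h0]
    have hdeg : P.natDegree = Fintype.card G := by
      rw [← hmonic.natDegree_map (Ideal.Quotient.mk J), hmap, Polynomial.natDegree_X_pow]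
    refine Ideal.Quotient.eq_zero_iff_mem.mp ?_
    rw [← Polynomial.coeff_map, hmap, Polynomial.coeff_X_pow, if_neg (by omega)]

theorem isIntegral_app (hq : SGA1.IsQuot ρ p) [Finite G] (U : Y.Opens) :
    (p.app U).hom.IsIntegral := by
  intro a
  obtain ⟨P, hP, hev, hrange, -⟩ := exists_monic hq U a
  obtain ⟨Q, hQ⟩ : P ∈ Polynomial.lifts (p.app U).hom :=
    (Polynomial.lifts_iff_coeff_lifts P).mpr hrange
  obtain ⟨Q', hQ', -, hQ'm⟩ := Polynomial.lifts_and_natDegree_eq_and_monic ⟨Q, hQ⟩ hP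
  refine ⟨Q', hQ'm, ?_⟩
  rw [← Polynomial.eval_map, hQ', hev]

theorem exists_point (hq : SGA1.IsQuot ρ p) [Finite G] {U : Y.Opens}
    (hA : IsAffineOpen (p ⁻¹ᵁ U)) (q : PrimeSpectrum Γ(Y, U)) :
    ∃ x : X, ∃ hx : x ∈ p ⁻¹ᵁ U,
      (hA.primeIdealOf ⟨x, hx⟩).asIdeal.comap (p.app U).hom = q.asIdeal := by
  obtain ⟨Q, hQ⟩ := (isIntegral_app hq U).comap_surjective (hq.injective U) q
  have hmem : hA.fromSpec Q ∈ (p ⁻¹ᵁ U : X.Opens) := by
    rw [← SetLike.mem_coe, ← IsAffineOpen.range_fromSpec hA]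
    exact ⟨Q, rfl⟩
  refine ⟨hA.fromSpec Q, hmem, ?_⟩
  rw [show hA.primeIdealOf ⟨hA.fromSpec Q, hmem⟩ = Q from hA.fromSpec.isOpenEmbedding.injective
    (IsAffineOpen.fromSpec_primeIdealOf hA _)]
  exact congrArg PrimeSpectrum.asIdeal hQ

theorem surjective (hq : SGA1.IsQuot ρ p) [Finite G] : Function.Surjective p := by
  intro y
  obtain ⟨U, hU, hyU, -⟩ := exists_isAffineOpen_mem_and_subset (X := Y) (x := y) (U := ⊤) trivial
  haveI := hq.affine
  obtain ⟨x, hx, h⟩ := exists_point hq (hU.preimage p) (hU.primeIdealOf ⟨y, hyU⟩)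
  refine ⟨x, ?_⟩
  have h1 := IsAffineOpen.comap_primeIdealOf_appLE U hU (p ⁻¹ᵁ U) (hU.preimage p) (f := p) (x := x) le_rfl hx
  rw [Scheme.Hom.appLE_eq_app] at h1
  have h2 : hU.primeIdealOf ⟨y, hyU⟩ = hU.primeIdealOf ⟨p x, hx⟩ :=
    (PrimeSpectrum.ext h).symm.trans h1
  have h3 := congrArg hU.fromSpec h2
  rw [hU.fromSpec_primeIdealOf, hU.fromSpec_primeIdealOf] at h3
  exact h3.symm

theorem isAffineOpen_of_preimage (hq : SGA1.IsQuot ρ p) [Finite G] {W : Y.Opens}
    (hA : IsAffineOpen (p ⁻¹ᵁ W)) : IsAffineOpen W := by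
  let s : Set Γ(Y, W) := {b | IsAffineOpen (Y.basicOpen b)}
  refine isAffineOpen_of_isAffineOpen_basicOpen W s ?_ fun b hb => hb
  by_contra hne
  obtain ⟨m, hm, hle⟩ := Ideal.exists_le_maximal _ hne
  obtain ⟨x, hx, hxm⟩ := exists_point hq hA ⟨m, hm.isPrime⟩
  obtain ⟨W', hW', hyW', hW'W⟩ := exists_isAffineOpen_mem_and_subset (X := Y) (x := p x) (U := W) hx
  obtain ⟨a, ha, hax⟩ := hA.exists_basicOpen_le (V := p ⁻¹ᵁ W') ⟨x, hyW'⟩ hx
  obtain ⟨P, hP, hev, hrange, hspan⟩ := exists_monic hq W a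
  -- a coefficient not vanishing at `x`
  have hax' : a ∉ (hA.primeIdealOf ⟨x, hx⟩).asIdeal := by
    rw [IsAffineOpen.primeIdealOf_eq_map_closedPoint hA]
    exact fun h => h ((X.mem_basicOpen a x hx).mp hax)
  obtain ⟨n, hn, hc⟩ : ∃ n < P.natDegree, P.coeff n ∉ (hA.primeIdealOf ⟨x, hx⟩).asIdeal := by
    by_contra hall
    push Not at hall
    apply hax'
    refine Ideal.IsPrime.mem_of_pow_mem inferInstance P.natDegree ?_
    rw [Polynomial.eval_eq_sum_range, Finset.sum_range_succ, hP.coeff_natDegree, one_mul] at hev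
    rw [eq_neg_of_add_eq_zero_right hev]
    exact neg_mem (sum_mem fun i hi => Ideal.mul_mem_right _ _ (hall i (Finset.mem_range.mp hi)))
  obtain ⟨b, hb⟩ := hrange n
  have hbm : b ∉ m := by
    intro h
    rw [← show _ = m from hxm, Ideal.mem_comap, hb] at h
    exact hc h
  have hsub : Y.basicOpen b ≤ W' := by
    intro z hz
    obtain ⟨x', rfl⟩ := surjective hq z
    have hx' : x' ∈ X.basicOpen (P.coeff n) := by
      rw [← hb, ← Scheme.preimage_basicOpen]
      exact hz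
    have hx'W : x' ∈ p ⁻¹ᵁ W := X.basicOpen_le _ hx'
    have hu : IsUnit ((X.presheaf.germ _ x' hx'W).hom (P.coeff n)) := (X.mem_basicOpen _ x' hx'W).mp hx'
    by_contra hx'W'
    have hmem : P.coeff n ∈ (IsLocalRing.maximalIdeal (X.presheaf.stalk x')).comap
        (X.presheaf.germ _ x' hx'W).hom := by
      refine Ideal.span_le.mpr ?_ (hspan n hn)
      rintro _ ⟨g, rfl⟩
      by_contra hg
      have hga : x' ∈ X.basicOpen (act hq W g a) :=
        (X.mem_basicOpen _ x' hx'W).mpr (not_not.mp hg)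
      rw [act, Scheme.Hom.appLE, CommRingCat.comp_apply, Scheme.basicOpen_res, ← Scheme.preimage_basicOpen] at hga
      · exact hx'W' (by
          have := ha hga.2
          show p x' ∈ W'
          rw [← hq.inv g, Scheme.Hom.comp_apply]
          exact this)
    exact hmem hu
  have haff : IsAffineOpen (Y.basicOpen b) := by
    have e : Y.basicOpen b ≤ W := Y.basicOpen_le b
    have h1 : Y.basicOpen b ≤ W' ⊓ W := le_inf hsub e
    have h2 := hW'.basicOpen (Y.presheaf.map (homOfLE hW'W).op b)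
    rw [Scheme.basicOpen_res] at h2
    rwa [inf_eq_right.mpr hsub] at h2
  exact hbm (hle (Ideal.subset_span haff))

theorem map_map_self {A B : (Opens X)ᵒᵖ} (a : A ⟶ B) (b : B ⟶ A) (x : X.presheaf.obj A) :
    X.presheaf.map b (X.presheaf.map a x) = x := by
  rw [← ConcreteCategory.comp_apply, ← X.presheaf.map_comp, Subsingleton.elim (a ≫ b) (𝟙 _),
    X.presheaf.map_id]
  rfl

theorem epi (hq : SGA1.IsQuot ρ p) [Finite G] : Epi p := by
  refine ⟨fun {Z} g₁ g₂ h => ?_⟩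
  have hb : g₁.base = g₂.base := by
    ext y
    obtain ⟨x, rfl⟩ := surjective hq y
    exact congrArg (fun m => m x) h
  refine Scheme.Hom.ext hb fun V => ?_
  ext t
  apply hq.injective (g₂ ⁻¹ᵁ V)
  have hU : g₂ ⁻¹ᵁ V = g₁ ⁻¹ᵁ V := by
    ext y; simp [hb]
  have h2 := ConcreteCategory.congr_hom (Scheme.Hom.congr_app h V) t
  simp only [Scheme.Hom.comp_app, ConcreteCategory.comp_apply] at h2
  show ((g₁.app V ≫ Y.presheaf.map (eqToHom hU).op) ≫ p.app (g₂ ⁻¹ᵁ V)) t = (g₂.app V ≫ p.app (g₂ ⁻¹ᵁ V)) t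
  rw [Category.assoc, Scheme.Hom.naturality, ConcreteCategory.comp_apply, ConcreteCategory.comp_apply]
  erw [h2]
  exact map_map_self _ _ _

end Groth.Agent.H27Quot
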